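import Cfsg.Agent.Lib.J4M24.Closure
import Cfsg.Agent.Lib.Golay.M24Group

/-!
Two permutations in the largest Mathieu group satisfying the relations between `x` and `y` in the
presented fourth Janko group, and generating it.
-/
set_option autoImplicit false
set_option maxRecDepth 20000

namespace CfsgLib.Presented.J4M24

open Cfsg

/-- image of a position under a table -/
def tblMap (l : List ℕ) (i : Fin 24) : Fin 24 := Fin.ofNat 24 (l.getD i.val 0)

/-- the table of the image of `x` -/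
def tblX : List ℕ := [8, 9, 5, 17, 6, 2, 4, 12, 0, 1, 15, 21, 7, 20, 22, 10, 18, 3, 16, 23, 13, 11, 14, 19]
/-- the table of the image of `y` -/
def tblY : List ℕ := [15, 1, 2, 20, 4, 18, 12, 13, 22, 3, 7, 11, 19, 10, 8, 21, 16, 17, 23, 6, 9, 0, 14, 5]
/-- the table of the inverse of the image of `y` -/
def tblYi : List ℕ := [21, 1, 2, 9, 4, 23, 19, 10, 14, 20, 13, 11, 6, 7, 22, 0, 16, 17, 5, 12, 3, 15, 8, 18]

/-- the image of `x` on positions -/
def posX : Equiv.Perm (Fin 24) := ⟨tblMap tblX, tblMap tblX, by decide +kernel, by decide +kernel⟩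
/-- the image of `y` on positions -/
def posY : Equiv.Perm (Fin 24) := ⟨tblMap tblY, tblMap tblYi, by decide +kernel, by decide +kernel⟩

/-- the image of `x` -/
def ptX : Equiv.Perm GolayPt := CfsgLib.Golay.ptEquiv.permCongr posX
/-- the image of `y` -/
def ptY : Equiv.Perm GolayPt := CfsgLib.Golay.ptEquiv.permCongr posY

theorem ptX_mem : ptX ∈ M24 := by
  rw [CfsgLib.Golay.mem_M24_iff_isPres]; decide +kernel

theorem ptY_mem : ptY ∈ M24 := by
  rw [CfsgLib.Golay.mem_M24_iff_isPres]; decide +kernel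

theorem ptX_sq : ptX * ptX = 1 :=
  CfsgLib.Golay.toList_injective (by decide +kernel)

theorem pt_rels : ∀ w ∈ relWords, evW (ev2 ptX ptY) w = 1 := by
  intro w hw
  refine CfsgLib.Golay.toList_injective ?_
  revert w
  decide +kernel

theorem shift_word : evW (ev2 ptX ptY) [2, 0, 2, 0, 1, 0, 1, 0, 1, 0, 2, 0, 2, 0, 1, 0, 1, 0, 1, 0, 2, 0, 1, 0, 1, 0, 1, 0, 2, 0, 1, 0, 1, 0, 2, 0, 2, 0, 2, 0, 2, 0, 1, 0, 2, 0, 2, 0, 2, 0] = CfsgLib.Golay.shiftPerm :=
  CfsgLib.Golay.toList_injective (by rw [CfsgLib.Golay.toList_shiftPerm]; decide +kernel)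

theorem inv_word : evW (ev2 ptX ptY) [0, 1, 0, 1, 0, 1, 0, 1, 0, 1, 0, 2, 0, 2, 0, 1, 0, 2, 0, 1, 0, 1, 0, 1, 0, 2, 0, 1, 0, 1, 0, 1, 0, 1, 0, 1, 0, 1, 0, 1, 0, 2, 0, 1, 0, 1, 0, 1, 0, 2, 0, 2] = projInv :=
  CfsgLib.Golay.toList_injective (by rw [CfsgLib.Golay.toList_projInv]; decide +kernel)

theorem cube_word : evW (ev2 ptX ptY) [0, 2, 0, 1, 0, 2, 0, 2, 0, 1, 0, 2, 0, 1, 0, 1, 0, 2, 0, 2, 0, 2, 0, 1, 0, 1, 0, 1, 0, 2, 0, 2, 0, 2, 0, 2, 0, 2, 0, 1, 0, 2, 0, 1, 0, 2, 0, 2, 0, 1, 0, 1] = cubeTwist :=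
  CfsgLib.Golay.toList_injective (by rw [CfsgLib.Golay.toList_cubeTwist]; decide +kernel)

theorem M24_le {H : Subgroup (Equiv.Perm GolayPt)} (hx : ptX ∈ H) (hy : ptY ∈ H) : M24 ≤ H := by
  have hev : ∀ x, ev2 ptX ptY x ∈ H := fun x => by
    rcases x with _ | _ | _ | x
    · exact hx
    · exact hy
    · exact H.inv_mem hy
    · exact H.one_mem
  have hw : ∀ w, evW (ev2 ptX ptY) w ∈ H := fun w => by
    induction w with
    | nil => exact H.one_mem
    | cons a w ih => rw [evW_cons]; exact H.mul_mem (hev a) ih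
  rw [← CfsgLib.Golay.G0_eq_M24, CfsgLib.Golay.G0, Subgroup.closure_le]
  rintro g (rfl | rfl | rfl)
  · exact shift_word ▸ hw _
  · exact inv_word ▸ hw _
  · exact cube_word ▸ hw _

end CfsgLib.Presented.J4M24
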