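import Cfsg.Agent.Lib.J4M24.Q20Cert
import Cfsg.Agent.Lib.J4M24.Q96Cert
import Cfsg.Agent.Lib.J4M24.Q7Cert
import Cfsg.Agent.Lib.J4M24.Q8Cert
import Cfsg.Agent.Lib.J4M24.QMCert
import Cfsg.Agent.Lib.J4M24.Perms
import Cfsg.Agent.Lib.J4Rep.Rep
import Cfsg.Agent.Lib.Golay.Mathieu

/-!
The two-generator presentation of the largest Mathieu group inside the presented fourth Janko group.
-/
set_option autoImplicit false
set_option maxRecDepth 20000

namespace CfsgLib.Presented.J4M24

open Cfsg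

theorem map_evW2 {G K : Type*} [Group G] [Group K] (φ : G →* K) (a b : G) :
    ∀ w, φ (evW (ev2 a b) w) = evW (ev2 (φ a) (φ b)) w
  | [] => map_one φ
  | x :: w => by
    rw [evW_cons, evW_cons, map_mul, map_evW2 φ a b w]
    congr 1
    rcases x with _ | _ | _ | x <;> simp [ev2]

theorem card_wordGroup_le {G : Type*} [Group G] {a b : G} (h : M24Rels a b) :
    Nat.card (wordGroup a b [[0], [1]]) ≠ 0 ∧ Nat.card (wordGroup a b [[0], [1]]) ≤ 244823040 := by
  have hb : b ^ 3 = 1 := by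
    have := h.2 [1, 1, 1] (by decide)
    simpa [evW, ev2, pow_succ, mul_assoc] using this
  have hfin : IsOfFinOrder b := isOfFinOrder_iff_pow_eq_one.2 ⟨3, by norm_num, hb⟩
  have h0 : Nat.card (wordGroup a b [[1]]) ≠ 0 ∧ Nat.card (wordGroup a b [[1]]) ≤ 3 := by
    have e : wordGroup a b [[1]] = Subgroup.zpowers b := by
      rw [Subgroup.zpowers_eq_closure, wordGroup]
      simp [evW, ev2]
    rw [e, Nat.card_zpowers]
    exact ⟨hfin.orderOf_pos.ne', orderOf_le_of_pow_eq_one (by norm_num) hb⟩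
  have h1 : Nat.card (wordGroup a b Q20.genWords) ≠ 0 ∧ Nat.card (wordGroup a b Q20.genWords) ≤ 3 * 20 :=
    card_le_of_relIndex h0 (Q20.relIndex_le h)
  have h2 : Nat.card (wordGroup a b Q96.genWords) ≠ 0 ∧ Nat.card (wordGroup a b Q96.genWords) ≤ 3 * 20 * 96 :=
    card_le_of_relIndex h1 (Q96.relIndex_le h)
  have h3 : Nat.card (wordGroup a b Q7.genWords) ≠ 0 ∧ Nat.card (wordGroup a b Q7.genWords) ≤ 3 * 20 * 96 * 7 :=
    card_le_of_relIndex h2 (Q7.relIndex_le h)
  have h4 : Nat.card (wordGroup a b Q8.genWords) ≠ 0 ∧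
      Nat.card (wordGroup a b Q8.genWords) ≤ 3 * 20 * 96 * 7 * 8 :=
    card_le_of_relIndex h3 (Q8.relIndex_le h)
  have hle : wordGroup a b QM.subWords ≤ wordGroup a b Q8.genWords := by
    refine Subgroup.closure_mono (Set.image_mono ?_)
    show ∀ w, w ∈ QM.subWords → w ∈ Q8.genWords
    decide +kernel
  have : Finite (wordGroup a b Q8.genWords) := Nat.finite_of_card_ne_zero h4.1
  have : Finite (wordGroup a b QM.subWords) := Finite.of_injective _ (Subgroup.inclusion_injective hle)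
  have h5 : Nat.card (wordGroup a b QM.subWords) ≠ 0 ∧
      Nat.card (wordGroup a b QM.subWords) ≤ 3 * 20 * 96 * 7 * 8 :=
    ⟨Nat.card_pos.ne', (Nat.card_le_card_of_injective _ (Subgroup.inclusion_injective hle)).trans h4.2⟩
  exact card_le_of_relIndex h5 (QM.relIndex_le h)

/-- the relators -/
def relSet : Set (FreeGroup (Fin 2)) :=
  insert (FreeGroup.of 0 * FreeGroup.of 0)
    ((fun w => evW (ev2 (FreeGroup.of 0) (FreeGroup.of 1)) w) '' {w | w ∈ relWords})

/-- the presented group -/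
abbrev P7 : Type := PresentedGroup relSet

/-- the first generator -/
noncomputable def gx : P7 := PresentedGroup.of 0
/-- the second generator -/
noncomputable def gy : P7 := PresentedGroup.of 1

theorem P7_rels : M24Rels gx gy := by
  refine ⟨?_, fun w hw => ?_⟩
  · exact PresentedGroup.one_of_mem (Set.mem_insert _ _)
  · show evW (ev2 (PresentedGroup.mk relSet (FreeGroup.of 0)) (PresentedGroup.mk relSet (FreeGroup.of 1))) w = 1
    rw [← map_evW2]
    exact PresentedGroup.one_of_mem (Set.mem_insert_of_mem _ ⟨w, hw, rfl⟩)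

theorem P7_top : wordGroup gx gy [[0], [1]] = ⊤ := by
  rw [eq_top_iff, ← PresentedGroup.closure_range_of relSet, Subgroup.closure_le]
  rintro _ ⟨i, rfl⟩
  refine Subgroup.subset_closure ?_
  fin_cases i
  · exact ⟨[0], by simp, by simp [evW, ev2, gx]⟩
  · exact ⟨[1], by simp, by simp [evW, ev2, gy]⟩

theorem card_P7_le : Nat.card P7 ≠ 0 ∧ Nat.card P7 ≤ 244823040 := by
  have := card_wordGroup_le P7_rels
  rwa [P7_top, Subgroup.card_top] at this

/-- the homomorphism on `P7` given by two elements satisfying the relations -/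
theorem exists_hom {K : Type*} [Group K] {a b : K} (h : M24Rels a b) :
    ∃ φ : P7 →* K, φ gx = a ∧ φ gy = b := by
  refine ⟨PresentedGroup.toGroup (f := ![a, b]) ?_, ?_, ?_⟩
  · rintro r (rfl | ⟨w, hw, rfl⟩)
    · simpa using h.1
    · rw [map_evW2]
      simpa using h.2 w hw
  · simp [gx]
  · simp [gy]

theorem M24_rels : M24Rels (⟨ptX, ptX_mem⟩ : M24) ⟨ptY, ptY_mem⟩ := by
  refine ⟨Subtype.ext ptX_sq, fun w hw => ?_⟩
  apply Subtype.ext
  have := map_evW2 (Subgroup.subtype M24) ⟨ptX, ptX_mem⟩ ⟨ptY, ptY_mem⟩ w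
  simp only [Subgroup.coe_subtype] at this
  rw [this, pt_rels w hw]
  rfl

theorem nonempty_P7_equiv : Nonempty (P7 ≃* M24) := by
  obtain ⟨φ, hx, hy⟩ := exists_hom M24_rels
  have : Finite P7 := Nat.finite_of_card_ne_zero card_P7_le.1
  have hsur : Function.Surjective φ := by
    rw [← MonoidHom.range_eq_top, eq_top_iff]
    have hle : M24 ≤ φ.range.map (Subgroup.subtype M24) :=
      M24_le ⟨_, ⟨gx, rfl⟩, by rw [hx]; rfl⟩ ⟨_, ⟨gy, rfl⟩, by rw [hy]; rfl⟩
    intro g _
    obtain ⟨g', hg', he⟩ := hle g.2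
    rwa [← Subtype.ext he]
  have hcard : Nat.card P7 ≤ Nat.card M24 := CfsgLib.Golay.natCard_M24.symm ▸ card_P7_le.2
  exact ⟨MulEquiv.ofBijective φ (hsur.bijective_of_nat_card_le hcard)⟩

/-- A nontrivial image of `P7` is a copy of `M24`. -/
theorem nonempty_equiv_of_hom {K : Type*} [Group K] {a b : K} (h : M24Rels a b) (ha : a ≠ 1) :
    Nonempty (Subgroup.closure ({a, b} : Set K) ≃* M24) := by
  obtain ⟨φ, hx, hy⟩ := exists_hom h
  obtain ⟨e⟩ := nonempty_P7_equiv
  have : IsSimpleGroup M24 := CfsgLib.Golay.isSimpleGroup_M24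
  have : Nontrivial P7 := e.toEquiv.nontrivial
  have : IsSimpleGroup P7 := IsSimpleGroup.isSimpleGroup_of_surjective e.symm.toMonoidHom e.symm.surjective
  have hinj : Function.Injective φ := by
    rw [← MonoidHom.ker_eq_bot_iff]
    refine (IsSimpleGroup.eq_bot_or_eq_top_of_normal _ inferInstance).resolve_right fun ht => ha ?_
    rw [← hx]
    exact MonoidHom.mem_ker.1 (ht ▸ Subgroup.mem_top gx)
  have hrange : φ.range = Subgroup.closure ({a, b} : Set K) := by
    rw [MonoidHom.range_eq_map, ← PresentedGroup.closure_range_of relSet, MonoidHom.map_closure,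
      ← Set.range_comp]
    congr 1
    ext k
    simp only [Set.mem_range, Function.comp_apply, Set.mem_insert_iff, Set.mem_singleton_iff]
    constructor
    · rintro ⟨i, rfl⟩
      fin_cases i
      · exact Or.inl hx
      · exact Or.inr hy
    · rintro (rfl | rfl)
      · exact ⟨0, hx⟩
      · exact ⟨1, hy⟩
  exact ⟨((MulEquiv.subgroupCongr hrange.symm).trans (MonoidHom.ofInjective hinj).symm).trans e⟩

/-- the image of `x` in the presented group -/
noncomputable def jx : Cfsg.Spor.J4 := PresentedGroup.mk _ Cfsg.Spor.J4.x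
/-- the image of `y` in the presented group -/
noncomputable def jy : Cfsg.Spor.J4 := PresentedGroup.mk _ Cfsg.Spor.J4.y

theorem jx_ne_one : jx ≠ 1 := by
  intro h
  have := congrArg CfsgLib.J4Rep.rep h
  rw [map_one] at this
  change PresentedGroup.toGroup CfsgLib.J4Rep.lift_rels (PresentedGroup.of Cfsg.Spor.J4.Gen.x) = 1 at this
  rw [PresentedGroup.toGroup.of] at this
  exact CfsgLib.J4Rep.permX_ne_one this

theorem extra_rels {K : Type*} [Group K] (φ : FreeGroup Cfsg.Spor.J4.Gen →* K)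
    (hm : ∀ r ∈ Cfsg.Spor.J4.extra, φ r = 1) : M24Rels (φ Cfsg.Spor.J4.x) (φ Cfsg.Spor.J4.y) := by
  simp only [Cfsg.Spor.J4.extra, List.forall_mem_cons] at hm
  obtain ⟨h0, h1, h2, h3, h4, h5, h6, -⟩ := hm
  generalize hA : Cfsg.Spor.J4.x = A at *
  generalize hB : Cfsg.Spor.J4.y = B at *
  have hxx : φ A * φ A = 1 := by simpa [pow_succ] using h0
  have hX : (φ A)⁻¹ = φ A := inv_eq_of_mul_eq_one_right hxx
  refine ⟨hxx, ?_⟩
  intro w hw
  simp only [relWords, List.mem_cons, List.not_mem_nil, or_false] at hw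
  rcases hw with rfl | rfl | rfl | rfl | rfl | rfl
  · simpa [evW, ev2, hX, pow_succ, mul_assoc, mul_inv_rev] using h1
  · simpa [evW, ev2, hX, pow_succ, mul_assoc, mul_inv_rev] using h2
  · simpa [evW, ev2, hX, pow_succ, mul_assoc, mul_inv_rev] using h3
  · simpa [evW, ev2, hX, pow_succ, mul_assoc, mul_inv_rev] using h4
  · simpa [evW, ev2, hX, pow_succ, mul_assoc, mul_inv_rev] using h5
  · simpa [evW, ev2, hX, pow_succ, mul_assoc, mul_inv_rev] using h6

theorem j_rels : M24Rels jx jy :=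
  extra_rels _ fun r hr => PresentedGroup.one_of_mem (Or.inr hr)

end CfsgLib.Presented.J4M24
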