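import Cfsg.Agent.Lib.Presented.Enum
import Mathlib.GroupTheory.Index
import Mathlib.Algebra.Group.Pointwise.Set.Finite

/-!
Bounding the index of one word-generated subgroup in another from a coset enumeration which is
closed under the generators of the larger subgroup; the letters and relators of the two-generator
presentation of the largest Mathieu group used in the presented fourth Janko group.
-/
set_option autoImplicit false

open scoped Pointwise

namespace CfsgLib.Presented

/-- check that the paths of the pairs (source, reversed word) end in `S` and read the word -/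
noncomputable def Enum.chkClose (d : Enum) (nF : ℕ) (S : List ℕ) : List (ℕ × List ℕ) → ℕ → Bool
  | [], _ => true
  | p :: ps, s =>
    match d.walk nF (s % 4194304) (s / 4194304) p.1 [] with
    | none => false
    | some (s', cur, acc) => S.any (fun c => Nat.beq c cur) && listEq acc p.2 && d.chkClose nF S ps s'

/-- the pairs to check -/
def closePairs (S : List ℕ) (gens : List (List ℕ)) : List (ℕ × List ℕ) :=
  S.flatMap fun c => gens.map fun w => (c, w.reverse)

theorem Enum.chkClose_sound {G : Type*} [Group G] {X : Type*} [MulAction G X] {d : Enum} {ev : ℕ → G}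
    {base : X} (hv : d.valid = true) (hI : d.Interp ev base) {nF : ℕ} (hok : d.OKOn 0 nF) {S : List ℕ} :
    ∀ {ps : List (ℕ × List ℕ)} {s : ℕ}, d.chkClose nF S ps s = true →
      ∀ p ∈ ps, ∃ c ∈ S, evW ev p.2.reverse • d.pt ev base c = d.pt ev base p.1
  | [], _, _ => fun p hp => absurd hp (List.not_mem_nil)
  | q :: ps, s, h => by
    intro p hp
    simp only [Enum.chkClose] at h
    cases hw : d.walk nF (s % 4194304) (s / 4194304) q.1 [] with
    | none => simp [hw] at h
    | some r =>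
      obtain ⟨s', cur, acc⟩ := r
      simp only [hw, Bool.and_eq_true] at h
      obtain ⟨⟨hm, he⟩, hrest⟩ := h
      rcases List.mem_cons.1 hp with rfl | hp'
      · obtain ⟨c, hc, hcc⟩ := List.any_eq_true.1 hm
        have := Enum.walk_sound hv hI (fun j hj => Enum.holds_of_ok hv hI hok j hj) hw
        refine ⟨c, hc, ?_⟩
        rw [Nat.eq_of_beq_eq_true hcc, ← listEq_eq he]
        simpa using this
      · exact Enum.chkClose_sound hv hI hok hrest p hp'

theorem Enum.relIndex_closed {G : Type*} [Group G] {d : Enum} {ev : ℕ → G} {H : Subgroup G}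
    (hv : d.valid = true) (hI : d.Interp ev ((1 : G) : G ⧸ H)) {nF : ℕ} (hok : d.OKOn 0 nF)
    {S : List ℕ} {gens : List (List ℕ)} {s : ℕ} (h0 : 0 ∈ S)
    (h : d.chkClose nF S (closePairs S gens) s = true) :
    H.relIndex (Subgroup.closure ((fun w => evW ev w) '' {w | w ∈ gens})) ≠ 0 ∧
      H.relIndex (Subgroup.closure ((fun w => evW ev w) '' {w | w ∈ gens})) ≤ S.length := by
  set L := Subgroup.closure ((fun w => evW ev w) '' {w | w ∈ gens}) with hL
  let p : Fin S.length → G ⧸ H := fun i => d.pt ev ((1 : G) : G ⧸ H) (S.get i)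
  have hbase : d.pt ev ((1 : G) : G ⧸ H) 0 = ((1 : G) : G ⧸ H) := by rw [Enum.pt]; simp
  have hfin : (Set.range p).Finite := Set.finite_range p
  have hstab : L ≤ MulAction.stabilizer G (Set.range p) := by
    rw [hL, Subgroup.closure_le]
    rintro g ⟨w, hw, rfl⟩
    have hsub : Set.range p ⊆ evW ev w • Set.range p := by
      rintro x ⟨i, rfl⟩
      obtain ⟨c, hc, he⟩ := Enum.chkClose_sound hv hI hok h (S.get i, w.reverse)
        (List.mem_flatMap.2 ⟨S.get i, List.get_mem _ _, List.mem_map.2 ⟨w, hw, rfl⟩⟩)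
      simp only [List.reverse_reverse] at he
      obtain ⟨j, hj⟩ := List.get_of_mem hc
      exact ⟨p j, ⟨j, rfl⟩, by simp only [p, hj]; exact he⟩
    show evW ev w • Set.range p = Set.range p
    exact (Set.eq_of_subset_of_ncard_le hsub (le_of_eq (Set.ncard_image_of_injective (Set.range p) (MulAction.injective (evW ev w))))
      (hfin.smul_set)).symm
  have hcov : ∀ a ∈ L, ∃ i, p i = ((a : G) : G ⧸ H) := by
    intro a ha
    have hs : a • Set.range p = Set.range p := hstab ha
    obtain ⟨i, hi⟩ := List.get_of_mem h0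
    have : a • p i ∈ Set.range p := by rw [← hs]; exact ⟨p i, ⟨i, rfl⟩, rfl⟩
    obtain ⟨j, hj⟩ := this
    refine ⟨j, ?_⟩
    rw [hj]
    simp only [p, hi, hbase]
    rw [MulAction.Quotient.smul_coe, smul_eq_mul, mul_one]
  let f : L ⧸ H.subgroupOf L → G ⧸ H := Quotient.map' Subtype.val (fun a b hab => by
    rw [QuotientGroup.leftRel_apply] at hab ⊢; exact hab)
  have hf : Function.Injective f := by
    intro u v
    induction u using QuotientGroup.induction_on with
    | _ a => induction v using QuotientGroup.induction_on with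
      | _ b =>
        intro huv
        have h' : ((a : G) : G ⧸ H) = ((b : G) : G ⧸ H) := huv
        have h2 := QuotientGroup.eq.1 h'
        exact QuotientGroup.eq.2 h2
  have hr : ∀ u, ∃ i, p i = f u := by
    intro u
    induction u using QuotientGroup.induction_on with
    | _ a => exact hcov a a.2
  choose g hg using hr
  have hg' : Function.Injective g := fun u v huv => hf (by rw [← hg u, ← hg v, huv])
  have : Finite (L ⧸ H.subgroupOf L) := Finite.of_injective g hg'
  refine ⟨?_, ?_⟩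
  · rw [Subgroup.relIndex, Subgroup.index]
    exact Nat.card_ne_zero.2 ⟨⟨QuotientGroup.mk 1⟩, inferInstance⟩
  · rw [Subgroup.relIndex, Subgroup.index]
    simpa using Nat.card_le_card_of_injective g hg'

theorem card_le_of_relIndex {G : Type*} [Group G] {H L : Subgroup G} {n m : ℕ}
    (hH : Nat.card H ≠ 0 ∧ Nat.card H ≤ n) (hi : H.relIndex L ≠ 0 ∧ H.relIndex L ≤ m) :
    Nat.card L ≠ 0 ∧ Nat.card L ≤ n * m := by
  have : Finite H := Nat.finite_of_card_ne_zero hH.1
  let e : H.subgroupOf L → H := fun a => ⟨(a : L), a.2⟩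
  have he : Function.Injective e := fun a b hab => by
    have := congrArg Subtype.val hab
    exact Subtype.ext (Subtype.ext this)
  have : Finite (H.subgroupOf L) := Finite.of_injective e he
  rw [← Subgroup.card_mul_index (H.subgroupOf L)]
  refine ⟨Nat.mul_ne_zero Nat.card_pos.ne' hi.1, Nat.mul_le_mul ?_ hi.2⟩
  exact (Nat.card_le_card_of_injective e he).trans hH.2

namespace J4M24

/-- letters: `0 = x`, `1 = y`, `2 = y⁻¹`, `3` the identity -/
def alphabet : Alphabet := ⟨3, (.leaf 0xc1080)⟩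

/-- the relators in x and y other than the square of x -/
def relWords : List (List ℕ) := [[1, 1, 1],
  [0, 1, 0, 1, 0, 1, 0, 1, 0, 1, 0, 1, 0, 1, 0, 1, 0, 1, 0, 1, 0, 1, 0, 1, 0, 1, 0, 1, 0, 1, 0, 1, 0, 1, 0, 1, 0, 1, 0, 1, 0, 1, 0, 1, 0, 1],
  [0, 2, 0, 1, 0, 2, 0, 1, 0, 2, 0, 1, 0, 2, 0, 1, 0, 2, 0, 1, 0, 2, 0, 1, 0, 2, 0, 1, 0, 2, 0, 1, 0, 2, 0, 1, 0, 2, 0, 1, 0, 2, 0, 1, 0, 2, 0, 1],
  [0, 2, 0, 2, 0, 1, 0, 1, 0, 2, 0, 2, 0, 1, 0, 1, 0, 2, 0, 2, 0, 1, 0, 1, 0, 2, 0, 2, 0, 1, 0, 1, 0, 2, 0, 2, 0, 1, 0, 1],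
  [0, 1, 0, 1, 0, 2, 0, 1, 0, 2, 0, 1, 0, 2, 0, 1, 0, 1, 0, 2, 0, 1, 0, 2, 0, 1, 0, 2, 0, 1, 0, 1, 0, 2, 0, 1, 0, 2, 0, 1, 0, 2, 0, 1, 0, 1, 0, 2, 0, 1, 0, 2, 0, 1, 0, 2],
  [0, 1, 0, 1, 0, 2, 0, 1, 0, 1, 0, 2, 0, 1, 0, 1, 0, 2, 0, 1, 0, 2, 0, 2, 0, 1, 0, 2, 0, 2, 0, 1, 0, 2, 0, 2]]

/-- the values of the letters -/
def ev2 {G : Type*} [Group G] (a b : G) : ℕ → G
  | 0 => a
  | 1 => b
  | 2 => b⁻¹
  | _ => 1

/-- the seven relations -/
def M24Rels {G : Type*} [Group G] (a b : G) : Prop :=
  a * a = 1 ∧ ∀ w ∈ relWords, evW (ev2 a b) w = 1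

/-- the subgroup generated by the values of some words -/
def wordGroup {G : Type*} [Group G] (a b : G) (ws : List (List ℕ)) : Subgroup G :=
  Subgroup.closure ((fun w => evW (ev2 a b) w) '' {w | w ∈ ws})

theorem relIndex_wordGroup {G : Type*} [Group G] {a b : G} (hr : M24Rels a b) {d : Enum}
    {subs gens : List (List ℕ)} (hA : d.A = alphabet) (hR : d.rels = relWords) (hS : d.subs = subs)
    (hv : d.valid = true) {nF : ℕ} (hok : d.OKOn 0 nF) {S : List ℕ} {s : ℕ} (h0 : 0 ∈ S)
    (h : d.chkClose nF S (closePairs S gens) s = true) {N : ℕ} (hN : S.length ≤ N) :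
    (wordGroup a b subs).relIndex (wordGroup a b gens) ≠ 0 ∧
      (wordGroup a b subs).relIndex (wordGroup a b gens) ≤ N := by
  have hI : d.Interp (ev2 a b) ((1 : G) : G ⧸ wordGroup a b subs) := by
    refine ⟨by rw [hA]; rfl, ?_, ?_, ?_⟩
    · rw [hA]
      intro x hx
      have hx' : x < 3 := hx
      obtain rfl | rfl | rfl : x = 0 ∨ x = 1 ∨ x = 2 := by omega
      · rw [show alphabet.invl 0 = 0 by decide +kernel]; exact hr.1
      · rw [show alphabet.invl 1 = 2 by decide +kernel]; exact inv_mul_cancel b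
      · rw [show alphabet.invl 2 = 1 by decide +kernel]; exact mul_inv_cancel b
    · rw [hR]; exact hr.2
    · rw [hS]
      intro w hw
      rw [MulAction.Quotient.smul_coe, smul_eq_mul, mul_one, QuotientGroup.eq, mul_one, inv_mem_iff]
      exact Subgroup.subset_closure ⟨w, hw, rfl⟩
  obtain ⟨h1, h2⟩ := Enum.relIndex_closed hv hI hok h0 h
  exact ⟨h1, h2.trans hN⟩

end J4M24

end CfsgLib.Presented
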